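import Groth.Agent.H8.QCohVanish.Vanish
import Groth.Agent.Lib.EtMod.Push
import Groth.Prelude.Def_AlgSpOX2
import Mathlib.CategoryTheory.Abelian.RightDerived

/-!
# Higher direct images of quasi-coherent modules along affine morphisms vanish
-/

universe u

set_option backward.isDefEq.respectTransparency false
set_option backward.isDefEq.respectTransparency.types false
set_option linter.style.haveILetI false

open CategoryTheory CategoryTheory.Limits AlgebraicGeometry Opposite AlgSp

namespace Groth.Agent.H8.QCohVanish

variable {S : Scheme.{u}} {X Y : Sp S} {f : X ⟶ Y} (hf : Representable f)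

/-- A complex of abelian sheaves which is exact on sections over affine objects is exact. -/
theorem exact_of_affine_sections (C : ShortComplex (AbEt X))
    (h : ∀ E : EtOver X, IsAffine E.obj.left.left → ∀ x, C.g.hom.app (op E) x = 0 →
      ∃ w, C.f.hom.app (op E) w = x) : C.Exact := by
  rw [ShortComplex.exact_iff_epi_toCycles, ← Sheaf.isLocallySurjective_iff_epi']
  refine ⟨fun {W} z => ?_⟩
  choose V j hV hj using fun v : W.obj.left.left => Lib.EtMod.exists_affine_open_obj v
  refine (etTop X).superset_covering ?_ (ofArrows_mem_etTop V j fun v => ⟨v, hj v⟩)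
  rintro A k ⟨_, a, _, ⟨v⟩, rfl⟩
  refine (Presheaf.imageSieve C.toCycles.hom z).downward_closed ?_ a
  obtain ⟨w, hw⟩ := h (V v) (hV v)
    (C.iCycles.hom.app (op (V v)) (C.cycles.obj.map (j v).op z)) (by
      rw [← ConcreteCategory.comp_apply, ← NatTrans.comp_app]
      exact ConcreteCategory.congr_hom
        (NatTrans.congr_app (congrArg (fun φ => φ.hom) C.iCycles_g) (op (V v))) _)
  refine ⟨w, Lib.ProEt.CechCrit.injective_app C.iCycles (V v) ?_⟩
  exact (ConcreteCategory.congr_hom
    (NatTrans.congr_app (congrArg (fun φ => φ.hom) C.toCycles_i) (op (V v))) w).trans hw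

/-- Sections of the pushed resolution over affine objects are exact. -/
theorem pushed_exact (haff : IsAffineMor f) (M : ModEt X) (hM : Lib.EtMod.IsCart M)
    (R : InjectiveResolution ((toAbEt X).obj M)) (n : ℕ) (E : EtOver Y)
    (hE : IsAffine E.obj.left.left)
    (x : (R.cocomplex.X (n + 1)).obj.obj (op (Lib.EtMod.bcE hf E)))
    (hx : (R.cocomplex.d (n + 1) (n + 2)).hom.app (op (Lib.EtMod.bcE hf E)) x = 0) :
    ∃ y, (R.cocomplex.d n (n + 1)).hom.app (op (Lib.EtMod.bcE hf E)) y = x :=
  exists_eq_d R (good_of_isCart M hM) (U := Lib.EtMod.bcE hf E)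
    (haveI := hE; Lib.EtMod.isAffine_bcE hf haff E) n x hx

/-- The pushed resolution is exact in positive degrees. -/
theorem exactAt_push (haff : IsAffineMor f) (M : ModEt X) (hM : Lib.EtMod.IsCart M)
    (R : InjectiveResolution ((toAbEt X).obj M)) (n : ℕ) :
    (((pushEt hf AddCommGrpCat.{u + 1}).mapHomologicalComplex _).obj R.cocomplex).ExactAt (n + 1) := by
  rw [HomologicalComplex.exactAt_iff' _ n (n + 1) (n + 2) (by simp) (by simp)]
  exact exact_of_affine_sections _ fun E hE x hx => pushed_exact hf haff M hM R n E hE x hx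

/-- Higher direct images along affine morphisms vanish. -/
theorem isZero_Rpush (haff : IsAffineMor f) (M : ModEt X) (hM : Lib.EtMod.IsCart M) (n : ℕ) :
    IsZero ((RpushEt hf (n + 1)).obj ((toAbEt X).obj M)) := by
  let R := InjectiveResolution.of ((toAbEt X).obj M)
  refine IsZero.of_iso ?_ (R.isoRightDerivedObj (pushEt hf AddCommGrpCat.{u + 1}) (n + 1))
  exact (exactAt_push hf haff M hM R n).isZero_homology

end Groth.Agent.H8.QCohVanish
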