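import Groth.Agent.Lib.ProEt.CechCrit

/-!
A Cartan criterion (covers adapted to each epimorphism and each section): variant of
`Groth.Agent.Lib.ProEt.CechCrit`.
-/

set_option autoImplicit false

universe u

open CategoryTheory CategoryTheory.Limits Opposite

namespace Groth.Agent.H8.QCohVanish

open Lib.ProEt.Cochain
open Lib.ProEt.CechCrit (injective_obj exists_sections_preimage injective_app exists_push_eq eq_zero_of_push)

variable {C : Type (u + 1)} [Category.{u} C] {J : GrothendieckTopology C}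
  [HasSheafify J AddCommGrpCat.{u + 1}]

/-- The data for the criterion. -/
structure Covers (J : GrothendieckTopology C) [HasSheafify J AddCommGrpCat.{u + 1}] where
  /-- The good objects. -/
  B : C → Prop
  /-- The good covers. -/
  Cov : ∀ ⦃P U : C⦄, (P ⟶ U) → Prop
  mem : ∀ ⦃P U : C⦄ (c : P ⟶ U), Cov c → Sieve.generate (Presieve.singleton c) ∈ J U
  rep : ∀ ⦃P U : C⦄ (c : P ⟶ U), Cov c → ∀ n, ∃ (V : C) (u : Tup c n V), B V ∧ IsUniv u
  lift : ∀ ⦃U : C⦄, B U → ∀ (X Y : Sheaf J AddCommGrpCat.{u + 1}) (φ : X ⟶ Y), Epi φ →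
    ∀ q : Y.obj.obj (op U), ∃ (P : C) (c : P ⟶ U), Cov c ∧
      ∃ j, φ.hom.app (op P) j = Y.obj.map c.op q

variable (𝒞 : Covers J)

/-- Cocycles on good covers are coboundaries. -/
def Good (F : Sheaf J AddCommGrpCat.{u + 1}) : Prop :=
  ∀ ⦃P U : C⦄ (c : P ⟶ U), 𝒞.Cov c → ∀ (n : ℕ) (x : Coch c F.obj (n + 1)),
    (∀ W t, (δ x).app W t = 0) → ∃ y, δ y = x

lemma good_of_injective (I : Sheaf J AddCommGrpCat.{u + 1}) [Injective I] : Good 𝒞 I :=
  fun _ _ _ _ _ x hx =>
    haveI := injective_obj I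
    exists_eq_δ_of_injective x hx

variable {𝒞} {S : ShortComplex (Sheaf J AddCommGrpCat.{u + 1})}

/-- Sections over good objects lift. -/
theorem surjective_of_good (hS : S.ShortExact) (h₁ : Good 𝒞 S.X₁) {U : C} (hU : 𝒞.B U) :
    Function.Surjective (S.g.hom.app (op U)) := by
  intro q
  obtain ⟨P, c, hc, j, hj⟩ := 𝒞.lift hU _ _ S.g hS.epi_g q
  let t₀ : Tup c 0 P := ⟨fun _ => 𝟙 P, fun _ _ => rfl⟩
  have ht₀ : IsUniv t₀ := fun W t => ⟨t.1 0, Subtype.ext (funext fun a =>
    (Category.comp_id _).trans (congrArg t.1 (Subsingleton.elim (α := Fin 1) 0 a))), fun g hg =>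
      ((Category.comp_id g).symm.trans (congrArg (fun s => s.1 0) hg))⟩
  let z : Coch c S.X₂.obj 0 := ofUniv ht₀ j
  have hz : ∀ W (t : Tup c 0 W), z.app W t = S.X₂.obj.map (t.1 0).op j := fun W t => by
    have e : res (t.1 0) t₀ = t := Subtype.ext (funext fun a =>
      (Category.comp_id _).trans (congrArg t.1 (Subsingleton.elim (α := Fin 1) 0 a)))
    exact (congrArg (z.app W) e.symm).trans (ofUniv_app ht₀ j (t.1 0))
  have hgz : ∀ W (t : Tup c 0 W), S.g.hom.app (op W) (z.app W t) =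
      S.X₃.obj.map (t.1 0 ≫ c).op q := fun W t => by
    rw [hz, op_comp, Functor.map_comp, ConcreteCategory.comp_apply, ← hj]
    exact ConcreteCategory.congr_hom (S.g.hom.naturality (t.1 0).op) j
  obtain ⟨x, hx⟩ := exists_push_eq hS (δ z) fun W t => by
    rw [δ_app, map_sum, Fin.sum_univ_two, map_zsmul, map_zsmul, hgz, hgz]
    have : (face (0 : Fin 2) t).1 0 ≫ c = (face (1 : Fin 2) t).1 0 ≫ c := t.2 _ _
    rw [this]
    simp
  obtain ⟨y, hy⟩ := h₁ c hc 0 x (eq_zero_of_push hS _ fun W t => by rw [push_δ, hx]; exact δ_δ z W t)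
  let j' : S.X₂.obj.obj (op P) := j - S.f.hom.app (op P) (y.app P t₀)
  have hj' : ∀ W (a : W ⟶ P), S.X₂.obj.map a.op j' =
      z.app W ⟨fun _ => a, fun _ _ => rfl⟩ - (push S.f.hom y).app W ⟨fun _ => a, fun _ _ => rfl⟩ := by
    intro W a
    rw [map_sub]
    refine congrArg₂ (fun a b : S.X₂.obj.obj (op W) => a - b) (hz W ⟨fun _ => a, fun _ _ => rfl⟩).symm ?_
    change _ = S.f.hom.app (op W) _
    rw [show (⟨fun _ => a, fun _ _ => rfl⟩ : Tup c 0 W) = res a t₀ from
      Subtype.ext (funext fun _ => (Category.comp_id _).symm), y.naturality]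
    exact (ConcreteCategory.congr_hom (S.f.hom.naturality a.op) _).symm
  have hsheaf : Presieve.IsSheaf J (S.X₂.obj ⋙ forget AddCommGrpCat.{u + 1}) :=
    (isSheaf_iff_isSheaf_of_type _ _).mp
      ((Presheaf.isSheaf_iff_isSheaf_forget _ S.X₂.obj (forget AddCommGrpCat.{u + 1})).mp S.X₂.property)
  obtain ⟨t, ht, -⟩ := Presieve.isSheafFor_singleton.mp
    ((Presieve.isSheafFor_iff_generate _).mpr (hsheaf _ (𝒞.mem c hc))) j' fun {W} a b hab => by
      change S.X₂.obj.map a.op j' = S.X₂.obj.map b.op j'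
      let t : Tup c 1 W := ⟨![b, a], fun i k => by fin_cases i <;> fin_cases k <;> simp [hab]⟩
      have h0 : face 0 t = ⟨fun _ => a, fun _ _ => rfl⟩ := Subtype.ext (funext fun i => by
        fin_cases i; simp [face, t])
      have h1 : face 1 t = ⟨fun _ => b, fun _ _ => rfl⟩ := Subtype.ext (funext fun i => by
        fin_cases i; simp [face, t])
      have h := congrArg (fun w => w.app W t) ((push_δ S.f.hom y).symm.trans ((congrArg _ hy).trans hx))
      rw [δ_app, δ_app, Fin.sum_univ_two, Fin.sum_univ_two, h0, h1] at h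
      simp only [Fin.val_zero, pow_zero, one_smul, Fin.val_one, pow_one, neg_smul] at h
      rw [hj', hj', sub_eq_sub_iff_sub_eq_sub]
      rw [← sub_eq_add_neg, ← sub_eq_add_neg] at h
      exact h.symm
  refine ⟨t, ?_⟩
  have hsep : Presieve.IsSheaf J (S.X₃.obj ⋙ forget AddCommGrpCat.{u + 1}) :=
    (isSheaf_iff_isSheaf_of_type _ _).mp
      ((Presheaf.isSheaf_iff_isSheaf_forget _ S.X₃.obj (forget AddCommGrpCat.{u + 1})).mp S.X₃.property)
  refine (hsep.isSeparated _ (𝒞.mem c hc)).ext fun W h hh => ?_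
  obtain ⟨_, a, _, hh', rfl⟩ := hh
  cases hh'
  change S.X₃.obj.map (a ≫ c).op (S.g.hom.app (op U) t) = S.X₃.obj.map (a ≫ c).op q
  rw [op_comp, Functor.map_comp, ConcreteCategory.comp_apply, ConcreteCategory.comp_apply, ← hj]
  have e : S.g.hom.app (op P) (S.X₂.obj.map c.op t) = S.X₃.obj.map c.op (S.g.hom.app (op U) t) :=
    ConcreteCategory.congr_hom (S.g.hom.naturality c.op) t
  rw [← e, show S.X₂.obj.map c.op t = j' from ht, map_sub]
  have e0 : S.g.hom.app (op P) (S.f.hom.app (op P) (y.app P t₀)) = 0 :=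
    ConcreteCategory.congr_hom (NatTrans.congr_app (congrArg (fun φ => φ.hom) S.zero) (op P)) _
  rw [e0, sub_zero]

/-- The quotient of good sheaves is good. -/
theorem good_X₃ (hS : S.ShortExact) (h₁ : Good 𝒞 S.X₁) (h₂ : Good 𝒞 S.X₂) : Good 𝒞 S.X₃ := by
  intro P U c hc n x hx
  obtain ⟨V, v, hV, hv⟩ := 𝒞.rep c hc (n + 1)
  obtain ⟨a, ha⟩ := surjective_of_good hS h₁ hV (x.app V v)
  let y := ofUniv hv a
  have hy : push S.g.hom y = x := eq_of_univ hv (by
    change S.g.hom.app (op V) (y.app V v) = _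
    rw [ofUniv_univ, ha])
  obtain ⟨w, hw⟩ := exists_push_eq hS (δ y) fun W t => by
    change (push S.g.hom (δ y)).app W t = 0
    rw [push_δ, hy]
    exact hx W t
  obtain ⟨r, hr⟩ := h₁ c hc (n + 1) w (eq_zero_of_push hS _ fun W t => by
    rw [push_δ, hw]; exact δ_δ y W t)
  let y' : Coch c S.X₂.obj (n + 1) :=
    { app := fun W t => y.app W t - (push S.f.hom r).app W t
      naturality := fun g t => by rw [y.naturality, (push S.f.hom r).naturality, map_sub] }
  obtain ⟨e, he⟩ := h₂ c hc n y' fun W t => by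
    have h := congrArg (fun z => z.app W t) ((push_δ S.f.hom r).symm.trans ((congrArg _ hr).trans hw))
    simp only [δ_app] at h ⊢
    simp only [y', smul_sub, Finset.sum_sub_distrib, h, sub_self]
  refine ⟨push S.g.hom e, ?_⟩
  rw [← push_δ, he]
  ext W t
  change S.g.hom.app (op W) (y.app W t - S.f.hom.app (op W) (r.app W t)) = _
  have e0 : S.g.hom.app (op W) (S.f.hom.app (op W) (r.app W t)) = 0 :=
    ConcreteCategory.congr_hom (NatTrans.congr_app (congrArg (fun φ => φ.hom) S.zero) (op W)) _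
  rw [map_sub, e0, sub_zero]
  exact congrArg (fun z => z.app W t) hy

variable {F : Sheaf J AddCommGrpCat.{u + 1}} (R : InjectiveResolution F)

/-- The cycles of an injective resolution of a good sheaf are good. -/
theorem exists_good_cycles (hF : Good 𝒞 F) (n : ℕ) :
    ∃ (Z : Sheaf J AddCommGrpCat.{u + 1}) (ι : Z ⟶ R.cocomplex.X n) (w : ι ≫ R.cocomplex.d n (n + 1) = 0),
      Mono ι ∧ Good 𝒞 Z ∧ (ShortComplex.mk ι (R.cocomplex.d n (n + 1)) w).Exact := by
  induction n with
  | zero =>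
    refine ⟨F, R.ι.f 0, R.ι_f_zero_comp_complex_d, ?_, hF, ?_⟩
    · exact mono_of_isLimit_fork R.isLimitKernelFork
    · exact ShortComplex.exact_of_f_is_kernel _ R.isLimitKernelFork
  | succ n ih =>
    obtain ⟨Z, ι, w, hι, hZ, hex⟩ := ih
    haveI := hι
    let π := cokernel.π ι
    let d' : cokernel ι ⟶ R.cocomplex.X (n + 1) := cokernel.desc ι (R.cocomplex.d n (n + 1)) w
    have hS : (ShortComplex.mk ι π (cokernel.condition ι)).ShortExact :=
      { exact := ShortComplex.exact_of_g_is_cokernel _ (cokernelIsCokernel ι) }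
    have hd : Mono d' := hex.mono_cokernelDesc
    have hw : d' ≫ R.cocomplex.d (n + 1) (n + 2) = 0 := by
      rw [← cancel_epi π]
      simp [π, d']
    refine ⟨cokernel ι, d', hw, hd, good_X₃ hS hZ (good_of_injective 𝒞 _), ?_⟩
    let φ : ShortComplex.mk (R.cocomplex.d n (n + 1)) (R.cocomplex.d (n + 1) (n + 2)) (by simp) ⟶
        ShortComplex.mk d' (R.cocomplex.d (n + 1) (n + 2)) hw :=
      { τ₁ := π, τ₂ := 𝟙 _, τ₃ := 𝟙 _, comm₁₂ := by simp [π, d'] }
    haveI : Epi φ.τ₁ := (inferInstance : Epi π)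
    haveI : IsIso φ.τ₂ := (inferInstance : IsIso (𝟙 _))
    haveI : Mono φ.τ₃ := (inferInstance : Mono (𝟙 _))
    exact (ShortComplex.exact_iff_of_epi_of_isIso_of_mono φ).mp (R.exact_succ n)

/-- Sections of an injective resolution over a good object are exact in positive degrees. -/
theorem exists_eq_d (hF : Good 𝒞 F) {U : C} (hU : 𝒞.B U) (n : ℕ)
    (x : (R.cocomplex.X (n + 1)).obj.obj (op U))
    (hx : (R.cocomplex.d (n + 1) (n + 2)).hom.app (op U) x = 0) :
    ∃ y, (R.cocomplex.d n (n + 1)).hom.app (op U) y = x := by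
  obtain ⟨Z, ι, w, hι, hZ, hex⟩ := exists_good_cycles R hF n
  haveI := hι
  let π := cokernel.π ι
  let d' : cokernel ι ⟶ R.cocomplex.X (n + 1) := cokernel.desc ι (R.cocomplex.d n (n + 1)) w
  have hS : (ShortComplex.mk ι π (cokernel.condition ι)).ShortExact :=
    { exact := ShortComplex.exact_of_g_is_cokernel _ (cokernelIsCokernel ι) }
  have hd : Mono d' := hex.mono_cokernelDesc
  have hw : d' ≫ R.cocomplex.d (n + 1) (n + 2) = 0 := by
    rw [← cancel_epi π]
    simp [π, d']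
  let φ : ShortComplex.mk (R.cocomplex.d n (n + 1)) (R.cocomplex.d (n + 1) (n + 2)) (by simp) ⟶
      ShortComplex.mk d' (R.cocomplex.d (n + 1) (n + 2)) hw :=
    { τ₁ := π, τ₂ := 𝟙 _, τ₃ := 𝟙 _, comm₁₂ := by simp [π, d'] }
  haveI : Epi φ.τ₁ := (inferInstance : Epi π)
  haveI : IsIso φ.τ₂ := (inferInstance : IsIso (𝟙 _))
  haveI : Mono φ.τ₃ := (inferInstance : Mono (𝟙 _))
  have hex' := (ShortComplex.exact_iff_of_epi_of_isIso_of_mono φ).mp (R.exact_succ n)
  haveI : Mono (ShortComplex.mk d' (R.cocomplex.d (n + 1) (n + 2)) hw).f := hd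
  obtain ⟨z, hz⟩ := exists_sections_preimage hex' U x hx
  obtain ⟨y, hy⟩ := surjective_of_good hS hZ hU z
  refine ⟨y, ?_⟩
  rw [← hz, ← hy]
  exact (ConcreteCategory.congr_hom (NatTrans.congr_app
    (congrArg (fun φ => φ.hom) (cokernel.π_desc ι (R.cocomplex.d n (n + 1)) w)) (op U)) y).symm

end Groth.Agent.H8.QCohVanish
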