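import Groth.Agent.Lib.EtMod.Basic
import Groth.Agent.H8.QCohVanish.Crit
import Mathlib.CategoryTheory.Sites.EpiMono

/-!
# Affine covers on the small etale site of a sheaf over a scheme
-/

universe u

set_option backward.isDefEq.respectTransparency false
set_option backward.isDefEq.respectTransparency.types false
set_option linter.style.haveILetI false

open CategoryTheory CategoryTheory.Limits AlgebraicGeometry Opposite AlgSp

namespace Groth.Agent.H8.QCohVanish

open Lib.EtMod (exists_affCover AffCover)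
open Lib.ProEt (Cochain.Tup Cochain.IsUniv)

variable {S : Scheme.{u}} {X : Sp S}

theorem isSheafFor_of_cover (F : AbEt X) {E : EtOver X} {ι : Type*} (V : ι → EtOver X)
    (g : ∀ i, V i ⟶ E) (hcov : ∀ x : E.obj.left.left, ∃ i, x ∈ Set.range (g i).hom.left.left) :
    (Presieve.ofArrows V g).IsSheafFor (F.obj ⋙ CategoryTheory.forget AddCommGrpCat.{u + 1}) := by
  rw [Presieve.isSheafFor_iff_generate]
  exact (isSheaf_iff_isSheaf_of_type _ _).mp
    ((Presheaf.isSheaf_iff_isSheaf_forget _ F.obj (CategoryTheory.forget AddCommGrpCat.{u + 1})).mp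
      F.property) _ (ofArrows_mem_etTop V g hcov)

theorem abEt_eq_of_cover (F : AbEt X) {E : EtOver X} {ι : Type*} (V : ι → EtOver X)
    (g : ∀ i, V i ⟶ E) (hcov : ∀ x : E.obj.left.left, ∃ i, x ∈ Set.range (g i).hom.left.left)
    {s t : F.obj.obj (op E)} (h : ∀ i, F.obj.map (g i).op s = F.obj.map (g i).op t) : s = t :=
  (isSheafFor_of_cover F V g hcov).isSeparatedFor.ext fun _ _ hk => by
    obtain ⟨i⟩ := hk
    exact h i

theorem abEt_exists_glue (F : AbEt X) {E : EtOver X} {ι : Type*} (V : ι → EtOver X)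
    (g : ∀ i, V i ⟶ E) (hcov : ∀ x : E.obj.left.left, ∃ i, x ∈ Set.range (g i).hom.left.left)
    (s : ∀ i, F.obj.obj (op (V i)))
    (hs : ∀ i j ⦃W : EtOver X⦄ (a : W ⟶ V i) (b : W ⟶ V j), a ≫ g i = b ≫ g j →
      F.obj.map a.op (s i) = F.obj.map b.op (s j)) :
    ∃ t : F.obj.obj (op E), ∀ i, F.obj.map (g i).op t = s i :=
  ((Presieve.isSheafFor_arrows_iff _ g).1 (isSheafFor_of_cover F V g hcov) s
    fun i j W a b hab => hs i j a b hab).exists

/-- An object over `E` from a scheme etale over the scheme of `E`. -/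
theorem exists_obj_over (E : EtOver X) {T : Scheme.{u}} (f : T ⟶ E.obj.left.left) [Etale f]
    {ι : Type*} (V : ι → EtOver X) (g : ∀ i, V i ⟶ E) (e : ∀ i, (V i).obj.left.left ⟶ T)
    (he : ∀ i, e i ≫ f = (g i).hom.left.left) :
    ∃ (P : EtOver X) (c : P ⟶ E) (φ : T ≅ P.obj.left.left) (e' : ∀ i, V i ⟶ P),
      φ.hom ≫ c.hom.left.left = f ∧ (∀ i, e' i ≫ c = g i) ∧
      ∀ i, (e' i).hom.left.left = e i ≫ φ.hom := by
  let V' : E.obj.left.left.Etale := MorphismProperty.Over.mk ⊤ f ‹_›
  let P := (EtOver.ofChart E.obj.hom E.property).obj V'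
  let c : P ⟶ E := EtOver.homMk (EtOver.homOfEtale V') rfl
  have hw : ∀ i, ∃ k : (V i).obj.left ⟶ P.obj.left, k.left = e i ∧ k ≫ c.hom.left = (g i).hom.left :=
    fun i => ⟨Over.homMk (e i) (by
      change e i ≫ f ≫ E.obj.left.hom = (V i).obj.left.hom
      rw [← Category.assoc, he i]
      exact Over.w (g i).hom.left), rfl, Over.OverMorphism.ext (he i)⟩
  choose k hk1 hk2 using hw
  let e' : ∀ i, V i ⟶ P := fun i => EtOver.homMk (k i) (by
    change (yon S).map (k i) ≫ (yon S).map (EtOver.homOfEtale V') ≫ E.obj.hom = (V i).obj.hom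
    rw [← Category.assoc, ← Functor.map_comp]
    exact (congrArg (fun q => (yon S).map q ≫ E.obj.hom) (hk2 i)).trans (EtOver.w (g i)))
  exact ⟨P, c, Iso.refl _, e', Category.id_comp _, fun i => EtOver.hom_ext _ _ (hk2 i),
    fun i => (hk1 i).trans (Category.comp_id _).symm⟩

/-- Epimorphisms of abelian sheaves lift sections after an affine covering. -/
theorem exists_lift {U : EtOver X} [IsAffine U.obj.left.left] {F G : AbEt X} (φ : F ⟶ G) [Epi φ]
    (q : G.obj.obj (op U)) :
    ∃ (P : EtOver X) (c : P ⟶ U), IsAffine P.obj.left.left ∧ Function.Surjective c.hom.left.left ∧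
      ∃ j, φ.hom.app (op P) j = G.obj.map c.op q := by
  haveI hls : Sheaf.IsLocallySurjective φ := (Sheaf.isLocallySurjective_iff_epi' _ φ).mpr inferInstance
  obtain ⟨C, hC⟩ := exists_affCover (Presheaf.imageSieve_mem (etTop X) φ.hom q)
  choose j hj using hC
  let T := ∐ fun k => (C.V k).obj.left.left
  let f : T ⟶ U.obj.left.left := Sigma.desc fun k => (C.g k).hom.left.left
  haveI : Etale f := IsZariskiLocalAtSource.sigmaDesc (P := @Etale) fun k => EtOver.etale_left (C.g k)
  obtain ⟨P, c, ψ, e, hψ, hec, hel⟩ := exists_obj_over U f C.V C.g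
    (Sigma.ι fun k => (C.V k).obj.left.left) (fun k => Sigma.ι_desc _ _)
  have hcov : ∀ x : P.obj.left.left, ∃ k, x ∈ Set.range (e k).hom.left.left := by
    intro x
    obtain ⟨k, y, hy⟩ := (sigmaOpenCover fun k => (C.V k).obj.left.left).exists_eq (ψ.inv x)
    refine ⟨k, y, ?_⟩
    rw [hel, Scheme.Hom.comp_apply]
    refine (congrArg ψ.hom hy).trans ?_
    rw [← Scheme.Hom.comp_apply, Iso.inv_hom_id]
    rfl
  obtain ⟨t, ht⟩ := abEt_exists_glue F C.V e hcov j (by
    intro a b W p r hpr
    by_cases hab : a = b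
    · subst hab
      have hh := congrArg (fun m => m.hom.left.left) hpr
      simp only at hh
      haveI : Mono (e a).hom.left.left := by rw [hel]; infer_instance
      rw [show p = r from EtOver.hom_ext _ _ (Over.OverMorphism.ext ((cancel_mono _).mp hh))]
    · refine abEt_eq_of_cover F (ι := PEmpty.{1}) (fun i => i.elim) (fun i => i.elim) (fun w => ?_)
        fun i => i.elim
      exfalso
      have hh : (p.hom.left.left ≫ (e a).hom.left.left) w = (r.hom.left.left ≫ (e b).hom.left.left) w :=
        congrArg (fun m => m.hom.left.left w) hpr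
      rw [hel, hel, ← Category.assoc, ← Category.assoc, Scheme.Hom.comp_apply _ ψ.hom,
        Scheme.Hom.comp_apply _ ψ.hom] at hh
      have h2 := ψ.hom.homeomorph.injective hh
      refine (disjoint_opensRange_sigmaι (fun k => (C.V k).obj.left.left) a b hab).le_bot
        (x := Sigma.ι (fun k => (C.V k).obj.left.left) a (p.hom.left.left w)) ⟨⟨_, rfl⟩, ?_⟩
      exact ⟨r.hom.left.left w, h2.symm⟩)
  refine ⟨P, c, IsAffine.of_isIso ψ.inv, fun x => ?_, t, ?_⟩
  · obtain ⟨k, y, hy⟩ := C.cov x
    exact ⟨(e k).hom.left.left y,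
      ((congrArg (fun m => m.hom.left.left y) (hec k)).trans hy)⟩
  · refine abEt_eq_of_cover G C.V e hcov fun k => ?_
    rw [← ConcreteCategory.comp_apply, ← φ.hom.naturality (e k).op, ConcreteCategory.comp_apply, ht,
      ← ConcreteCategory.comp_apply, ← Functor.map_comp, ← op_comp, hec]
    exact hj k

variable (X) in
/-- Surjective morphisms of affine objects. -/
noncomputable def covers : Covers (etTop X) where
  B E := IsAffine E.obj.left.left
  Cov P U c := IsAffine P.obj.left.left ∧ IsAffine U.obj.left.left ∧ Function.Surjective c.hom.left.left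
  mem P U c h := by
    rw [← Presieve.ofArrows_pUnit]
    exact ofArrows_mem_etTop (fun _ : PUnit.{1} => P) (fun _ => c) fun x =>
      ⟨⟨⟩, h.2.2 x⟩
  rep P U c h n := by
    refine ⟨Lib.ProEt.CechCrit.obj c n, Lib.ProEt.CechCrit.univ c n, ?_, Lib.ProEt.CechCrit.isUniv n⟩
    induction n with
    | zero => exact h.1
    | succ n ih =>
      haveI := h.1
      haveI := h.2.1
      haveI := ih
      haveI : IsAffine ((EtOver.toScheme X).obj P) := h.1
      haveI : IsAffine ((EtOver.toScheme X).obj U) := h.2.1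
      haveI : IsAffine ((EtOver.toScheme X).obj (Lib.ProEt.CechCrit.obj c n)) := ih
      exact .of_isPullback ((IsPullback.of_hasPullback c
        ((Lib.ProEt.CechCrit.univ c n).1 0 ≫ c)).map (EtOver.toScheme X))
  lift U hU F G φ hφ q := by
    haveI := hU
    haveI := hφ
    obtain ⟨P, c, hP, hc, h⟩ := exists_lift φ q
    exact ⟨P, c, ⟨hP, hU, hc⟩, h⟩

end Groth.Agent.H8.QCohVanish
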