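import Groth.Agent.Lib.EtMod.QCoh
import Groth.Agent.H8.QCohVanish.Covers
import Mathlib.RingTheory.Flat.FaithfullyFlat.Algebra

/-!
# Cech acyclicity of quasi-coherent modules for affine covers
-/

universe u

set_option backward.isDefEq.respectTransparency false
set_option backward.isDefEq.respectTransparency.types false
set_option linter.style.haveILetI false

open CategoryTheory CategoryTheory.Limits AlgebraicGeometry Opposite AlgSp TensorProduct

namespace Groth.Agent.H8.QCohVanish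

open Lib.EtMod (fn fnMap Fn MSec PSec mRes toPSnd IsCart res res_smul res_comp_apply)
open Lib.ProEt.Cochain

variable {S : Scheme.{u}} {X : Sp S} {P U : EtOver X} (c : P ⟶ U)

/-- The fibre powers of a cover. -/
noncomputable abbrev pw (n : ℕ) : EtOver X := Lib.ProEt.CechCrit.obj c n

/-- The universal tuple. -/
noncomputable abbrev un (n : ℕ) : Tup c n (pw c n) := Lib.ProEt.CechCrit.univ c n

/-- The structure map of a fibre power. -/
noncomputable abbrev prj (n : ℕ) : pw c n ⟶ U := (un c n).1 0 ≫ c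

variable {c}

/-- The classifying morphism of a tuple. -/
noncomputable def cls {n : ℕ} {W : EtOver X} (t : Tup c n W) : W ⟶ pw c n :=
  (Lib.ProEt.CechCrit.isUniv n t).choose

theorem res_cls {n : ℕ} {W : EtOver X} (t : Tup c n W) : Lib.ProEt.Cochain.res (cls t) (un c n) = t :=
  (Lib.ProEt.CechCrit.isUniv n t).choose_spec.1

theorem cls_eq {n : ℕ} {W : EtOver X} {t : Tup c n W} {g : W ⟶ pw c n}
    (h : Lib.ProEt.Cochain.res g (un c n) = t) : cls t = g :=
  ((Lib.ProEt.CechCrit.isUniv n t).choose_spec.2 g h).symm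

theorem cls_prj {n : ℕ} {W : EtOver X} (t : Tup c n W) : cls t ≫ prj c n = t.1 0 ≫ c := by
  have h : cls t ≫ (un c n).1 0 = t.1 0 :=
    congrFun (congrArg (fun s : Tup c n W => s.1) (res_cls t)) 0
  exact (Category.assoc _ _ _).symm.trans (congrArg (fun g => g ≫ c) h)

theorem cls_res {n : ℕ} {W W' : EtOver X} (h : W' ⟶ W) (t : Tup c n W) :
    cls (Lib.ProEt.Cochain.res h t) = h ≫ cls t :=
  cls_eq ((res_comp _ _ _).trans (congrArg (Lib.ProEt.Cochain.res h) (res_cls t)))

variable (c) in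
/-- The face morphism of fibre powers. -/
noncomputable def fc (n : ℕ) (i : Fin (n + 2)) : pw c (n + 1) ⟶ pw c n := cls (face i (un c (n + 1)))

theorem fc_prj (n : ℕ) (i : Fin (n + 2)) : fc c n i ≫ prj c n = prj c (n + 1) :=
  (cls_prj _).trans ((un c (n + 1)).2 _ _)

theorem cls_face {n : ℕ} {W : EtOver X} (t : Tup c (n + 1) W) (i : Fin (n + 2)) :
    cls (face i t) = cls t ≫ fc c n i := by
  rw [fc, ← cls_res, ← face_res, res_cls]

variable (M : ModEt X)

variable (c) in
/-- The Cech differential on sections over the fibre powers. -/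
noncomputable def dd (n : ℕ) : MSec M (prj c n) →ₗ[fn U] MSec M (prj c (n + 1)) :=
  ∑ i : Fin (n + 2), (-1 : ℤ) ^ (i : ℕ) • mRes M (fc c n i) (fc_prj n i)

theorem dd_apply {n : ℕ} (s : MSec M (prj c n)) :
    dd c M n s = ∑ i : Fin (n + 2), (-1 : ℤ) ^ (i : ℕ) • mRes M (fc c n i) (fc_prj n i) s := by
  rw [dd, LinearMap.sum_apply]
  rfl

theorem res_cls_dd {n : ℕ} {W : EtOver X} (t : Tup c (n + 1) W) (s : MSec M (prj c n)) :
    res M (cls t) (show sectModEt M _ from dd c M n s) = ∑ i : Fin (n + 2), (-1 : ℤ) ^ (i : ℕ) •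
      res M (cls (face i t)) (show sectModEt M _ from s) := by
  rw [dd_apply]
  refine (map_sum (res M (cls t)) _ _).trans (Finset.sum_congr rfl fun i _ => ?_)
  refine (map_zsmul (res M (cls t)) _ _).trans (congrArg _ ?_)
  rw [cls_face, res_comp_apply]
  rfl

variable (hM : IsCart M) [hU : IsAffine U.obj.left.left] [hP : IsAffine P.obj.left.left]
  [haff : ∀ n, IsAffine (pw c n).obj.left.left]

/-- Lifting a point of `P` and a tuple. -/
noncomputable def pairLift {n : ℕ} {W : EtOver X} (p : W ⟶ P) (t : Tup c n W)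
    (hp : p ≫ c = t.1 0 ≫ c) : W ⟶ EtOver.pullbackObj c (prj c n) :=
  (EtOver.pullbackIsLimit c (prj c n)).lift
    (PullbackCone.mk p (cls t) (hp.trans (cls_prj t).symm))

theorem pairLift_fst {n : ℕ} {W : EtOver X} (p : W ⟶ P) (t : Tup c n W) (hp : p ≫ c = t.1 0 ≫ c) :
    pairLift p t hp ≫ EtOver.pullbackFst c (prj c n) = p :=
  (EtOver.pullbackIsLimit c (prj c n)).fac _ WalkingCospan.left

theorem pairLift_snd {n : ℕ} {W : EtOver X} (p : W ⟶ P) (t : Tup c n W) (hp : p ≫ c = t.1 0 ≫ c) :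
    pairLift p t hp ≫ EtOver.pullbackSnd c (prj c n) = cls t :=
  (EtOver.pullbackIsLimit c (prj c n)).fac _ WalkingCospan.right

variable (c) in
/-- The base change identification. -/
noncomputable def psi (n : ℕ) :
    TensorProduct (fn U) (Fn c) (MSec M (prj c n)) ≃+ sectModEt M (EtOver.pullbackObj c (prj c n)) :=
  (Lib.EtMod.isBaseChange_toPSnd c (prj c n) (hM (EtOver.pullbackSnd c (prj c n)))).equiv.toAddEquiv

theorem psi_tmul (n : ℕ) (b : Fn c) (m : MSec M (prj c n)) :
    psi c M hM n (b ⊗ₜ m) = fnMap (EtOver.pullbackFst c (prj c n)) b •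
      res M (EtOver.pullbackSnd c (prj c n)) (show sectModEt M _ from m) :=
  (IsBaseChange.equiv_tmul (Lib.EtMod.isBaseChange_toPSnd c (prj c n)
    (hM (EtOver.pullbackSnd c (prj c n)))) b m).trans rfl

/-- Evaluation of a tensor at a pair. -/
noncomputable def ev {n : ℕ} {W : EtOver X} (p : W ⟶ P) (t : Tup c n W)
    (hp : p ≫ c = t.1 0 ≫ c) (z : TensorProduct (fn U) (Fn c) (MSec M (prj c n))) : sectModEt M W :=
  res M (pairLift p t hp) (psi c M hM n z)

theorem ev_tmul {n : ℕ} {W : EtOver X} (p : W ⟶ P) (t : Tup c n W)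
    (hp : p ≫ c = t.1 0 ≫ c) (b : Fn c) (m : MSec M (prj c n)) :
    ev M hM p t hp (b ⊗ₜ m) = fnMap p b • res M (cls t) (show sectModEt M _ from m) := by
  rw [ev, psi_tmul, res_smul, ← Lib.EtMod.fnMap_comp_apply, pairLift_fst, ← res_comp_apply,
    pairLift_snd]

theorem ev_add {n : ℕ} {W : EtOver X} (p : W ⟶ P) (t : Tup c n W)
    (hp : p ≫ c = t.1 0 ≫ c) (z z' : TensorProduct (fn U) (Fn c) (MSec M (prj c n))) :
    ev M hM p t hp (z + z') = ev M hM p t hp z + ev M hM p t hp z' := by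
  simp [ev]

theorem ev_zero {n : ℕ} {W : EtOver X} (p : W ⟶ P) (t : Tup c n W) (hp : p ≫ c = t.1 0 ≫ c) :
    ev M hM p t hp (0 : TensorProduct (fn U) (Fn c) (MSec M (prj c n))) = 0 := by
  simp [ev]

theorem ev_congr {n : ℕ} {W : EtOver X} {p p' : W ⟶ P} {t t' : Tup c n W} (h : p = p') (h' : t = t')
    (hp : p ≫ c = t.1 0 ≫ c) (hp' : p' ≫ c = t'.1 0 ≫ c)
    (z : TensorProduct (fn U) (Fn c) (MSec M (prj c n))) :
    ev M hM p t hp z = ev M hM p' t' hp' z := by
  subst h; subst h'; rfl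

theorem res_ev {n : ℕ} {W W' : EtOver X} (h : W' ⟶ W) (p : W ⟶ P) (t : Tup c n W)
    (hp : p ≫ c = t.1 0 ≫ c) (hp' : (h ≫ p) ≫ c = (Lib.ProEt.Cochain.res h t).1 0 ≫ c)
    (z : TensorProduct (fn U) (Fn c) (MSec M (prj c n))) :
    res M h (ev M hM p t hp z) = ev M hM (h ≫ p) (Lib.ProEt.Cochain.res h t) hp' z := by
  induction z using TensorProduct.induction_on with
  | zero => simp [ev_zero]
  | tmul b m => rw [ev_tmul, ev_tmul, res_smul, ← Lib.EtMod.fnMap_comp_apply, cls_res, res_comp_apply]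
  | add a b ha hb => simp [ev_add, ha, hb]

theorem ev_lTensor {n : ℕ} {W : EtOver X} (p : W ⟶ P) (t : Tup c (n + 1) W)
    (hp : p ≫ c = t.1 0 ≫ c) (z : TensorProduct (fn U) (Fn c) (MSec M (prj c n))) :
    ev M hM p t hp ((dd c M n).lTensor (Fn c) z) = ∑ i : Fin (n + 2), (-1 : ℤ) ^ (i : ℕ) •
      ev M hM p (face i t) (hp.trans (t.2 _ _)) z := by
  induction z using TensorProduct.induction_on with
  | zero => simp [ev_zero]
  | tmul b m =>
    rw [LinearMap.lTensor_tmul, ev_tmul, res_cls_dd, Finset.smul_sum]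
    refine Finset.sum_congr rfl fun i _ => ?_
    rw [ev_tmul, smul_comm]
  | add a b ha hb => simp [ev_add, ha, hb, Finset.sum_add_distrib]

theorem ev_self {n : ℕ} (z : TensorProduct (fn U) (Fn c) (MSec M (prj c n))) :
    ev M hM (EtOver.pullbackFst c (prj c n))
      (Lib.ProEt.Cochain.res (EtOver.pullbackSnd c (prj c n)) (un c n))
      ((EtOver.pullback_condition c (prj c n)).trans (Category.assoc _ _ _).symm) z =
      psi c M hM n z := by
  induction z using TensorProduct.induction_on with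
  | zero => simp [ev_zero]
  | tmul b m => rw [ev_tmul, psi_tmul, cls_eq rfl]
  | add a b ha hb => simp [ev_add, ha, hb]

/-- Adding a point in front of a tuple. -/
def tcons {n : ℕ} {W : EtOver X} (p : W ⟶ P) (t : Tup c n W) (hp : p ≫ c = t.1 0 ≫ c) :
    Tup c (n + 1) W :=
  ⟨Fin.cons p t.1, fun a b => by
    have h : ∀ a, (Fin.cons p t.1 : Fin (n + 2) → (W ⟶ P)) a ≫ c = t.1 0 ≫ c := by
      intro a
      induction a using Fin.cases with
      | zero => rw [Fin.cons_zero]; exact hp
      | succ a => rw [Fin.cons_succ]; exact t.2 _ _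
    rw [h a, h b]⟩

omit hU hP haff in
theorem face_zero_tcons {n : ℕ} {W : EtOver X} (p : W ⟶ P) (t : Tup c n W)
    (hp : p ≫ c = t.1 0 ≫ c) : face 0 (tcons p t hp) = t :=
  Subtype.ext (funext fun a => by simp [face, tcons])

omit hU hP haff in
theorem face_succ_tcons {n : ℕ} {W : EtOver X} (p : W ⟶ P) (t : Tup c (n + 1) W)
    (hp : p ≫ c = t.1 0 ≫ c) (i : Fin (n + 2)) :
    face i.succ (tcons p t hp) = tcons p (face i t) (hp.trans (t.2 _ _)) :=
  Subtype.ext (funext fun a => by
    induction a using Fin.cases with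
    | zero => simp [face, tcons]
    | succ a => simp [face, tcons])

include hM in
/-- After base change to `P` every cocycle is a coboundary. -/
theorem exists_lTensor_eq (n : ℕ) (z : TensorProduct (fn U) (Fn c) (MSec M (prj c (n + 1))))
    (hz : (dd c M (n + 1)).lTensor (Fn c) z = 0) : ∃ w, (dd c M n).lTensor (Fn c) w = z := by
  let f₁ := EtOver.pullbackFst c (prj c n)
  let t₁ : Tup c n (EtOver.pullbackObj c (prj c n)) :=
    Lib.ProEt.Cochain.res (EtOver.pullbackSnd c (prj c n)) (un c n)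
  have h₁ : f₁ ≫ c = t₁.1 0 ≫ c :=
    (EtOver.pullback_condition c (prj c n)).trans (Category.assoc _ _ _).symm
  let w := (psi c M hM n).symm (ev M hM f₁ (tcons f₁ t₁ h₁) (by simp [tcons]) z)
  refine ⟨w, (psi c M hM (n + 1)).injective ?_⟩
  rw [← ev_self, ← ev_self]
  suffices key : ∀ {W : EtOver X} (p : W ⟶ P) (t : Tup c (n + 1) W) (hp : p ≫ c = t.1 0 ≫ c),
      ev M hM p t hp ((dd c M n).lTensor (Fn c) w) = ev M hM p t hp z from key _ _ _
  intro W p t hp
  have hw : ∀ (t' : Tup c n W) (hp' : p ≫ c = t'.1 0 ≫ c),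
      ev M hM p t' hp' w = ev M hM p (tcons p t' hp') (by simp [tcons]) z := by
    intro t' hp'
    have e1 : pairLift p t' hp' ≫ f₁ = p := pairLift_fst p t' hp'
    have e2 : Lib.ProEt.Cochain.res (pairLift p t' hp') t₁ = t' :=
      (res_comp _ _ _).symm.trans ((congrArg (fun g => Lib.ProEt.Cochain.res g (un c n))
        (pairLift_snd p t' hp')).trans (res_cls t'))
    rw [ev]
    simp only [w, AddEquiv.apply_symm_apply]
    rw [res_ev M hM (pairLift p t' hp') f₁ _ _ (by simp [tcons, Lib.ProEt.Cochain.res])]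
    refine ev_congr M hM e1 ?_ _ _ z
    refine Subtype.ext (funext fun a => ?_)
    induction a using Fin.cases with
    | zero => simpa [tcons, Lib.ProEt.Cochain.res] using e1
    | succ a => simpa [tcons, Lib.ProEt.Cochain.res] using congrArg (fun s => s.1 a) e2
  rw [ev_lTensor]
  have h0 : ev M hM p (tcons p t hp) (by simp [tcons]) ((dd c M (n + 1)).lTensor (Fn c) z) = 0 := by
    rw [hz, ev_zero]
  rw [ev_lTensor, Fin.sum_univ_succ] at h0
  simp only [Fin.val_zero, pow_zero, one_smul, Fin.val_succ, pow_succ, mul_neg, mul_one, neg_smul,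
    Finset.sum_neg_distrib, ← sub_eq_add_neg, sub_eq_zero] at h0
  refine Eq.trans ?_ ((ev_congr M hM rfl (face_zero_tcons p t hp) _ _ z).symm.trans h0).symm
  refine Finset.sum_congr rfl fun i _ => congrArg _ ?_
  rw [hw]
  exact ev_congr M hM rfl (face_succ_tcons p t hp i).symm _ _ z

include hM in
/-- Cocycles on the fibre powers are coboundaries. -/
theorem exists_dd_eq (hc : Function.Surjective c.hom.left.left) (n : ℕ) (z : MSec M (prj c (n + 1)))
    (hz : dd c M (n + 1) z = 0) (hdd : ∀ y, dd c M (n + 1) (dd c M n y) = 0) :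
    ∃ y, dd c M n y = z := by
  haveI : Module.Flat (fn U) (Fn c) := Lib.EtMod.flat_fn c
  let C : Lib.EtMod.AffCover U := ⟨1, fun _ => P, fun _ => c, fun _ => hP, fun x => ⟨0, hc x⟩⟩
  have hcov : Function.Surjective (PrimeSpectrum.comap (algebraMap (fn U) (Fn c))) := fun q => by
    obtain ⟨_, r, hr⟩ := C.covers q
    exact ⟨r, hr⟩
  haveI : Module.FaithfullyFlat (fn U) (Fn c) := .of_comap_surjective hcov
  have hex : Function.Exact (dd c M n) (dd c M (n + 1)) := by
    rw [← Module.FaithfullyFlat.lTensor_exact_iff_exact (fn U) (Fn c)]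
    refine fun w => ⟨exists_lTensor_eq M hM n w, ?_⟩
    rintro ⟨y, rfl⟩
    rw [← LinearMap.comp_apply, ← LinearMap.lTensor_comp,
      show (dd c M (n + 1)).comp (dd c M n) = 0 from LinearMap.ext hdd, LinearMap.lTensor_zero]
    rfl
  exact (hex z).mp hz

omit hU hP haff in
theorem δ_app_cls {n : ℕ} (x : Coch c ((toAbEt X).obj M).obj n) :
    (δ x).app (pw c (n + 1)) (un c (n + 1)) = dd c M n (x.app (pw c n) (un c n)) := by
  rw [δ_app, dd_apply]
  refine Finset.sum_congr rfl fun i _ => congrArg _ ?_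
  rw [← res_cls (face i (un c (n + 1))), x.naturality]
  rfl

omit hU hP haff in
/-- Quasi-coherent modules are good. -/
theorem good_of_isCart (hM : IsCart M) : Good (covers X) ((toAbEt X).obj M) := by
  intro P U c hc n x hx
  haveI := hc.1
  haveI := hc.2.1
  haveI : ∀ n, IsAffine (pw c n).obj.left.left := fun n => by
    obtain ⟨V, v, hV, hv⟩ := (covers X).rep c hc n
    obtain ⟨a, ha, -⟩ := hv (un c n)
    obtain ⟨b, hb, -⟩ := Lib.ProEt.CechCrit.isUniv n v
    have h1 : a ≫ b = 𝟙 _ := (Lib.ProEt.CechCrit.isUniv n (un c n)).unique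
      ((res_comp _ _ _).trans ((congrArg _ hb).trans ha)) (res_id _)
    have h2 : b ≫ a = 𝟙 _ := (hv v).unique
      ((res_comp _ _ _).trans ((congrArg _ ha).trans hb)) (res_id _)
    haveI : IsAffine ((EtOver.toScheme X).obj V) := hV
    exact IsAffine.of_isIso ((EtOver.toScheme X).mapIso ⟨a, b, h1, h2⟩).hom
  have hdd : ∀ y : MSec M (prj c n), dd c M (n + 1) (dd c M n y) = 0 := fun y => by
    let v : Coch c ((toAbEt X).obj M).obj n := ofUniv (Lib.ProEt.CechCrit.isUniv n) y
    have hv : v.app (pw c n) (un c n) = y := ofUniv_univ _ _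
    have h := δ_δ v (pw c (n + 2)) (un c (n + 2))
    rw [δ_app_cls, δ_app_cls, hv] at h
    exact h
  obtain ⟨y, hy⟩ := exists_dd_eq M hM hc.2.2 n (x.app (pw c (n + 1)) (un c (n + 1)))
    (by rw [← δ_app_cls]; exact hx _ _) hdd
  refine ⟨ofUniv (Lib.ProEt.CechCrit.isUniv n) y, eq_of_univ (Lib.ProEt.CechCrit.isUniv (n + 1)) ?_⟩
  rw [δ_app_cls, ofUniv_univ]
  exact hy

end Groth.Agent.H8.QCohVanish
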