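import Groth.Agent.Lib.EtMod.PushFP
import Groth.Prelude.Def_AlgSpOX2
import Mathlib.CategoryTheory.Sites.ConstantSheaf
import Mathlib.CategoryTheory.Adjunction.Additive

/-!
# Maps from constant sheaves and direct images
-/

universe u

set_option backward.isDefEq.respectTransparency false
set_option backward.isDefEq.respectTransparency.types false
set_option linter.style.haveILetI false

open CategoryTheory CategoryTheory.Limits AlgebraicGeometry Opposite AlgSp

namespace Groth.Agent.H8.QCohVanish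

variable {S : Scheme.{u}} {X Y : Sp S} {f : X ⟶ Y} (hf : Representable f) (hY : IsAlgSpace Y)

/-- Two morphisms to base changes factor through the base change of one object. -/
theorem exists_common (E E' : EtOver Y) {W : EtOver X} (a : W ⟶ (EtOver.bc hf).obj E)
    (b : W ⟶ (EtOver.bc hf).obj E') :
    ∃ (P : EtOver Y) (p : P ⟶ E) (q : P ⟶ E') (m : W ⟶ (EtOver.bc hf).obj P),
      m ≫ (EtOver.bc hf).map p = a ∧ m ≫ (EtOver.bc hf).map q = b := by
  obtain ⟨T, snd, fst, sq⟩ := E'.property.1 E.obj.hom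
  obtain ⟨fst', rfl⟩ := (yon S).map_surjective fst
  have hsnd : Etale snd.left := E'.property.2 E.obj.hom _ snd sq
  let P : EtOver Y := EtOver.mk ((yon S).map snd ≫ E.obj.hom)
    ((repWith_isMultiplicative (S := S) @Etale).comp_mem _ _ ((repWith_yon_map_iff _ _).2 hsnd) E.property)
  let p : P ⟶ E := EtOver.homMk snd rfl
  let q : P ⟶ E' := EtOver.homMk fst' sq.w
  have key : ∀ {G : EtOver Y} (k : W ⟶ (EtOver.bc hf).obj G),
      (yon S).map (k.hom.left ≫ hf.snd G.obj.hom) ≫ G.obj.hom = W.obj.hom ≫ f := fun {G} k => by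
    have h1 : (yon S).map k.hom.left ≫ hf.fst G.obj.hom = W.obj.hom := EtOver.w k
    rw [Functor.map_comp, Category.assoc, ← hf.w, ← Category.assoc, h1]
  let t : W.obj.left ⟶ T := (yon S).preimage (sq.lift ((yon S).map (b.hom.left ≫ hf.snd E'.obj.hom))
    ((yon S).map (a.hom.left ≫ hf.snd E.obj.hom)) ((key b).trans (key a).symm))
  have ht1 : (yon S).map t ≫ (yon S).map snd = (yon S).map (a.hom.left ≫ hf.snd E.obj.hom) := by
    rw [Functor.map_preimage]; exact sq.lift_snd _ _ _
  have ht2 : (yon S).map t ≫ (yon S).map fst' = (yon S).map (b.hom.left ≫ hf.snd E'.obj.hom) := by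
    rw [Functor.map_preimage]; exact sq.lift_fst _ _ _
  have ht : W.obj.hom ≫ f = (yon S).map t ≫ P.obj.hom := by
    change _ = (yon S).map t ≫ (yon S).map snd ≫ E.obj.hom
    rw [← Category.assoc, ht1]
    exact (key a).symm
  let m : W ⟶ (EtOver.bc hf).obj P := EtOver.homMk (hf.lift W.obj.hom t ht) (hf.lift_fst _ _ _)
  refine ⟨P, p, q, m, EtOver.hom_ext _ _ (hf.hom_ext ?_ ?_), EtOver.hom_ext _ _ (hf.hom_ext ?_ ?_)⟩
  · exact (EtOver.w (m ≫ (EtOver.bc hf).map p)).trans (EtOver.w a).symm
  · refine (yon S).map_injective ?_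
    rw [← ht1, ← Functor.map_comp]
    change (yon S).map ((m.hom.left ≫ (EtOver.bcMap hf p).hom.left) ≫ _) = _
    rw [Category.assoc, EtOver.bcMap_snd, ← Category.assoc]
    exact congrArg (fun k => (yon S).map (k ≫ snd)) (hf.lift_snd _ _ _)
  · exact (EtOver.w (m ≫ (EtOver.bc hf).map q)).trans (EtOver.w b).symm
  · refine (yon S).map_injective ?_
    rw [← ht2, ← Functor.map_comp]
    change (yon S).map ((m.hom.left ≫ (EtOver.bcMap hf q).hom.left) ≫ _) = _
    rw [Category.assoc, EtOver.bcMap_snd, ← Category.assoc]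
    exact congrArg (fun k => (yon S).map (k ≫ fst')) (hf.lift_snd _ _ _)

include hY in
theorem coversTop_bc_all : (etTop X).CoversTop fun E : EtOver Y => (EtOver.bc hf).obj E := fun D =>
  (etTop X).superset_covering (fun T g hg => by
    obtain ⟨E, hk⟩ := (Sieve.mem_ofObjects_iff ..).1 hg
    exact (Sieve.mem_ofObjects_iff ..).2 ⟨E.1, hk⟩) (Lib.EtMod.coversTop_bcE hf hY D)

variable (A : AddCommGrpCat.{u + 1}) (F : AbEt X)

/-- Restriction of a map from a constant presheaf. -/
noncomputable def whisk (η : (Functor.const (EtOver X)ᵒᵖ).obj A ⟶ F.obj) :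
    (Functor.const (EtOver Y)ᵒᵖ).obj A ⟶ ((pushEt hf AddCommGrpCat.{u + 1}).obj F).obj where
  app E := η.app (op ((EtOver.bc hf).obj E.unop))
  naturality E E' g := η.naturality ((EtOver.bc hf).map g.unop).op

include hY in
theorem whisk_bijective : Function.Bijective (whisk hf A F) := by
  let F' : (EtOver X)ᵒᵖ ⥤ Type (u + 1) := F.obj ⋙ CategoryTheory.forget AddCommGrpCat.{u + 1}
  have hF : Presheaf.IsSheaf (etTop X) F' :=
    (Presheaf.isSheaf_iff_isSheaf_forget _ F.obj (CategoryTheory.forget AddCommGrpCat.{u + 1})).mp F.property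
  have hsep : ∀ {W : EtOver X} {s t : F.obj.obj (op W)},
      (∀ (E : EtOver Y) ⦃W' : EtOver X⦄ (g : W' ⟶ W) (_ : W' ⟶ (EtOver.bc hf).obj E),
        F.obj.map g.op s = F.obj.map g.op t) → s = t := fun {W s t} h =>
    (((isSheaf_iff_isSheaf_of_type _ _).1 hF).isSeparated _ (coversTop_bc_all hf hY W)).ext
      fun W' g hg => by
        obtain ⟨E, ⟨b⟩⟩ := (Sieve.mem_ofObjects_iff ..).1 hg
        exact h E g b
  constructor
  · intro η η' h
    refine NatTrans.ext (funext fun W => AddCommGrpCat.hom_ext (AddMonoidHom.ext fun a => ?_))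
    refine hsep (W := W.unop) fun E W' g b => ?_
    have hE : η.app (op ((EtOver.bc hf).obj E)) a = η'.app (op ((EtOver.bc hf).obj E)) a :=
      congrArg (fun ψ : (Functor.const (EtOver Y)ᵒᵖ).obj A ⟶ _ => ψ.app (op E) a) h
    have n1 := fun (θ : (Functor.const (EtOver X)ᵒᵖ).obj A ⟶ F.obj) {W W' : (EtOver X)ᵒᵖ}
      (k : W ⟶ W') => (ConcreteCategory.congr_hom (θ.naturality k) a :)
    exact ((n1 η g.op).symm.trans ((n1 η b.op).trans ((congrArg _ hE).trans
      ((n1 η' b.op).symm.trans (n1 η' g.op)))) :)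
  · intro α
    have hc : ∀ a : A, Presheaf.FamilyOfElementsOnObjects.IsCompatible
        (F := F') (Y := fun E : EtOver Y => (EtOver.bc hf).obj E) (fun E => α.app (op E) a) := by
      intro a W E E' g g'
      obtain ⟨P, p, q, m, rfl, rfl⟩ := exists_common hf E E' g g'
      change F.obj.map (m ≫ _).op (α.app (op E) a) = F.obj.map (m ≫ _).op (α.app (op E') a)
      rw [op_comp, op_comp, Functor.map_comp, Functor.map_comp, ConcreteCategory.comp_apply,
        ConcreteCategory.comp_apply]
      exact congrArg _ ((ConcreteCategory.congr_hom (α.naturality p.op) a).symm.trans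
        (ConcreteCategory.congr_hom (α.naturality q.op) a))
    let s : A → F'.sections := fun a => (hc a).section_ (coversTop_bc_all hf hY) hF
    have hs : ∀ a E, (s a).1 (op ((EtOver.bc hf).obj E)) = α.app (op E) a := fun a E =>
      (hc a).section_apply (coversTop_bc_all hf hY) hF E
    have hnat : ∀ a {W W' : EtOver X} (g : W' ⟶ W),
        F.obj.map g.op ((s a).1 (op W)) = (s a).1 (op W') := fun a {W W'} g => (s a).2 g.op
    refine ⟨{ app := fun W => AddCommGrpCat.ofHom (AddMonoidHom.mk' (fun a => (s a).1 W) fun a a' => ?_),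
              naturality := fun W W' g => ?_ }, ?_⟩
    · refine hsep (W := W.unop) fun E W' g b => ?_
      change F.obj.map g.op ((s (a + a')).1 (op W.unop)) =
        F.obj.map g.op ((s a).1 (op W.unop) + (s a').1 (op W.unop))
      rw [map_add, hnat, hnat, hnat, ← hnat _ b, ← hnat _ b, ← hnat _ b, hs, hs, hs, map_add, map_add]
    · refine AddCommGrpCat.hom_ext (AddMonoidHom.ext fun a => ?_)
      exact (hnat a g.unop).symm
    · refine NatTrans.ext (funext fun E => AddCommGrpCat.hom_ext (AddMonoidHom.ext fun a => ?_))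
      exact hs a E.unop

/-- Restriction of maps from constant presheaves, as an isomorphism. -/
noncomputable def whiskEquiv :
    ((Functor.const (EtOver X)ᵒᵖ).obj A ⟶ F.obj) ≃+
      ((Functor.const (EtOver Y)ᵒᵖ).obj A ⟶ ((pushEt hf AddCommGrpCat.{u + 1}).obj F).obj) :=
  AddEquiv.ofBijective (AddMonoidHom.mk' (whisk hf A F) fun _ _ => rfl) (whisk_bijective hf hY A F)

/-- Maps out of constant sheaves and direct images. -/
noncomputable def theta :
    ((constantSheaf (etTop X) AddCommGrpCat.{u + 1}).obj A ⟶ F) ≃+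
      ((constantSheaf (etTop Y) AddCommGrpCat.{u + 1}).obj A ⟶ (pushEt hf AddCommGrpCat.{u + 1}).obj F) :=
  ((sheafificationAdjunction (etTop X) AddCommGrpCat.{u + 1}).homAddEquiv
      ((Functor.const (EtOver X)ᵒᵖ).obj A) F).trans
    ((whiskEquiv hf hY A F).trans
      ((sheafificationAdjunction (etTop Y) AddCommGrpCat.{u + 1}).homAddEquiv
        ((Functor.const (EtOver Y)ᵒᵖ).obj A) ((pushEt hf AddCommGrpCat.{u + 1}).obj F)).symm)

variable {A F}

theorem theta_comp {G : AbEt X} (η : (constantSheaf (etTop X) AddCommGrpCat.{u + 1}).obj A ⟶ F) (φ : F ⟶ G) :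
    theta hf hY A G (η ≫ φ) = theta hf hY A F η ≫ (pushEt hf AddCommGrpCat.{u + 1}).map φ := by
  refine ((sheafificationAdjunction (etTop Y) AddCommGrpCat.{u + 1}).homAddEquiv _ _).injective ?_
  have key : whisk hf A G ((sheafificationAdjunction (etTop X) AddCommGrpCat.{u + 1}).homEquiv _ G (η ≫ φ)) =
      whisk hf A F ((sheafificationAdjunction (etTop X) AddCommGrpCat.{u + 1}).homEquiv _ F η) ≫
        ((pushEt hf AddCommGrpCat.{u + 1}).map φ).hom := by
    rw [Adjunction.homEquiv_naturality_right]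
    rfl
  refine ((AddEquiv.apply_symm_apply _ _).trans key).trans ?_
  rw [Adjunction.homAddEquiv_apply, Adjunction.homEquiv_naturality_right]
  refine congrArg (· ≫ _) ?_
  exact (AddEquiv.apply_symm_apply
    ((sheafificationAdjunction (etTop Y) AddCommGrpCat.{u + 1}).homAddEquiv
      ((Functor.const (EtOver Y)ᵒᵖ).obj A) ((pushEt hf AddCommGrpCat.{u + 1}).obj F))
    (whisk hf A F ((sheafificationAdjunction (etTop X) AddCommGrpCat.{u + 1}).homEquiv _ F η))).symm

end Groth.Agent.H8.QCohVanish
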