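import Groth.Agent.H8.QCohVanish.Push
import Groth.Agent.H8.QCohVanish.GlobalHom
import Groth.Agent.Lib.AlgSpPush.Essential
import Mathlib.CategoryTheory.Abelian.Injective.Ext

/-!
# Cohomology and direct images along affine morphisms
-/

universe w w' u

set_option backward.isDefEq.respectTransparency false
set_option backward.isDefEq.respectTransparency.types false
set_option linter.style.haveILetI false

open CategoryTheory CategoryTheory.Limits AlgebraicGeometry Opposite AlgSp Abelian

namespace Groth.Agent.H8.QCohVanish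

/-- An isomorphism between quotients. -/
theorem nonempty_addEquiv_of_ker {K K' H H' : Type*} [AddCommGroup K] [AddCommGroup K']
    [AddCommGroup H] [AddCommGroup H'] (e : K ≃+ K') (q : K →+ H) (q' : K' →+ H')
    (hq : Function.Surjective q) (hq' : Function.Surjective q')
    (h : ∀ x, q x = 0 ↔ q' (e x) = 0) : Nonempty (H ≃+ H') := by
  have hker : q.ker ≤ (q'.comp e.toAddMonoidHom).ker := fun x hx => (h x).1 hx
  let φ := q.liftOfSurjective hq ⟨q'.comp e.toAddMonoidHom, hker⟩
  have hφ : ∀ x, φ (q x) = q' (e x) := fun x =>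
    AddMonoidHom.liftOfRightInverse_comp_apply q _ (Function.rightInverse_surjInv hq) ⟨_, hker⟩ x
  refine ⟨AddEquiv.ofBijective φ ⟨(injective_iff_map_eq_zero φ).2 fun z hz => ?_, fun y => ?_⟩⟩
  · obtain ⟨x, rfl⟩ := hq z
    rw [hφ] at hz
    exact (h x).2 hz
  · obtain ⟨x', rfl⟩ := hq' y
    exact ⟨q (e.symm x'), by rw [hφ, e.apply_symm_apply]⟩

/-- Higher Ext groups computed by matching cocycles of injective resolutions. -/
theorem nonempty_ext_addEquiv {C : Type*} [Category* C] [Abelian C] [HasExt.{w} C]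
    {D : Type*} [Category* D] [Abelian D] [HasExt.{w'} D] {ZX G : C} {ZY G' : D}
    (R : InjectiveResolution G) (R' : InjectiveResolution G')
    (θ : ∀ i, (ZX ⟶ R.cocomplex.X i) ≃+ (ZY ⟶ R'.cocomplex.X i))
    (hθ : ∀ i g, θ (i + 1) (g ≫ R.cocomplex.d i (i + 1)) = θ i g ≫ R'.cocomplex.d i (i + 1)) (n : ℕ) :
    Nonempty (Ext ZX G (n + 1) ≃+ Ext ZY G' (n + 1)) := by
  let K : AddSubgroup (ZX ⟶ R.cocomplex.X (n + 1)) :=
    (AddMonoidHom.mk' (fun g => g ≫ R.cocomplex.d (n + 1) (n + 2)) fun _ _ =>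
      Preadditive.add_comp _ _ _ _ _ _).ker
  let K' : AddSubgroup (ZY ⟶ R'.cocomplex.X (n + 1)) :=
    (AddMonoidHom.mk' (fun g => g ≫ R'.cocomplex.d (n + 1) (n + 2)) fun _ _ =>
      Preadditive.add_comp _ _ _ _ _ _).ker
  let q : K →+ Ext ZX G (n + 1) := AddMonoidHom.mk' (fun g => R.extMk g.1 (n + 2) rfl g.2)
    fun a b => (R.add_extMk _ _ _ _ a.2 b.2).symm
  let q' : K' →+ Ext ZY G' (n + 1) := AddMonoidHom.mk' (fun g => R'.extMk g.1 (n + 2) rfl g.2)
    fun a b => (R'.add_extMk _ _ _ _ a.2 b.2).symm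
  have hmem : ∀ g : ZX ⟶ R.cocomplex.X (n + 1), g ∈ K ↔ θ (n + 1) g ∈ K' := fun g => by
    change g ≫ _ = 0 ↔ θ (n + 1) g ≫ _ = 0
    rw [← hθ, AddEquiv.map_eq_zero_iff]
  let e : K ≃+ K' :=
    { toFun := fun g => ⟨θ (n + 1) g.1, (hmem g.1).1 g.2⟩
      invFun := fun g => ⟨(θ (n + 1)).symm g.1, (hmem _).2 (by
        rw [(θ (n + 1)).apply_symm_apply]; exact g.2)⟩
      left_inv := fun g => Subtype.ext ((θ (n + 1)).symm_apply_apply g.1)
      right_inv := fun g => Subtype.ext ((θ (n + 1)).apply_symm_apply g.1)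
      map_add' := fun a b => Subtype.ext ((θ (n + 1)).map_add a.1 b.1) }
  refine nonempty_addEquiv_of_ker e q q' (fun a => ?_) (fun a => ?_) fun x => ?_
  · obtain ⟨g, hg, rfl⟩ := R.extMk_surjective a (n + 2) rfl
    exact ⟨⟨g, hg⟩, rfl⟩
  · obtain ⟨g, hg, rfl⟩ := R'.extMk_surjective a (n + 2) rfl
    exact ⟨⟨g, hg⟩, rfl⟩
  · change R.extMk x.1 (n + 2) rfl x.2 = 0 ↔ R'.extMk (θ (n + 1) x.1) (n + 2) rfl ((hmem x.1).1 x.2) = 0
    rw [R.extMk_eq_zero_iff _ _ _ _ n rfl, R'.extMk_eq_zero_iff _ _ _ _ n rfl]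
    refine ⟨fun ⟨g, hg⟩ => ⟨θ n g, by rw [← hθ, hg]⟩, fun ⟨g, hg⟩ => ⟨(θ n).symm g, ?_⟩⟩
    exact (θ (n + 1)).injective (by rw [hθ, AddEquiv.apply_symm_apply, hg])

variable {S : Scheme.{u}} {X Y : Sp S} {f : X ⟶ Y} (hf : Representable f)
  (hX : IsAlgSpace X) (hY : IsAlgSpace Y)

include hX hY in
/-- The inverse image of abelian sheaves preserves monomorphisms. -/
theorem preservesMono_pullEt : (pullEt hf AddCommGrpCat.{u + 1}).PreservesMonomorphisms := by
  refine ⟨fun {F G} a _ => ?_⟩
  rw [Groth.Agent.Lib.AlgSpStalk.Stalks.mono_iff_ab hX]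
  intro z hz
  let e := Groth.Agent.Lib.AlgSpPush.Essential.stalkPullIso hf hX hY z hz AddCommGrpCat.{u + 1}
  have ha := (Groth.Agent.Lib.AlgSpStalk.Stalks.mono_iff_ab hY a).1 ‹_› (z.map f) hz
  intro s t hst
  refine ((e.app F).addCommGroupIsoToAddEquiv).injective (ha ?_)
  have hn := fun s => ConcreteCategory.congr_hom (e.hom.naturality a) s
  refine ((hn s).symm.trans ?_).trans (hn t)
  exact congrArg (e.hom.app G) hst

include hX hY in
/-- The direct image of an injective sheaf is injective. -/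
theorem injective_pushEt (I : AbEt X) [Injective I] :
    Injective ((pushEt hf AddCommGrpCat.{u + 1}).obj I) :=
  haveI := preservesMono_pullEt hf hX hY
  Injective.injective_of_adjoint (pullPushAdjEt hf AddCommGrpCat.{u + 1}) I

variable (haff : IsAffineMor f) (M : ModEt X) (hM : Lib.EtMod.IsCart M)
  (R : InjectiveResolution ((toAbEt X).obj M))

/-- The pushed resolution is an injective resolution. -/
noncomputable def pushRes : InjectiveResolution ((pushEt hf AddCommGrpCat.{u + 1}).obj ((toAbEt X).obj M)) where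
  cocomplex := ((pushEt hf AddCommGrpCat.{u + 1}).mapHomologicalComplex _).obj R.cocomplex
  injective n := haveI := R.injective n; injective_pushEt hf hX hY _
  ι := (CochainComplex.fromSingle₀Equiv
      (((pushEt hf AddCommGrpCat.{u + 1}).mapHomologicalComplex _).obj R.cocomplex) _).symm
    ⟨(pushEt hf AddCommGrpCat.{u + 1}).map (R.ι.f 0),
      ((pushEt hf AddCommGrpCat.{u + 1}).map_comp _ _).symm.trans
        ((congrArg _ R.ι_f_zero_comp_complex_d).trans ((pushEt hf AddCommGrpCat.{u + 1}).map_zero _ _))⟩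
  quasiIso := ⟨fun n => by
    cases n with
    | zero =>
      rw [CochainComplex.quasiIsoAt₀_iff, ShortComplex.quasiIso_iff_of_zeros]
      rotate_left
      · simp
      · simp
      · simp
      haveI : (pushEt hf AddCommGrpCat.{u + 1}).IsRightAdjoint :=
        (pullPushAdjEt hf AddCommGrpCat.{u + 1}).isRightAdjoint
      have hker := KernelFork.mapIsLimit _ R.isLimitKernelFork (pushEt hf AddCommGrpCat.{u + 1})
      refine ⟨?_, ?_⟩
      · refine (ShortComplex.exact_iff_of_iso ?_).1 (ShortComplex.exact_of_f_is_kernel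
          (ShortComplex.mk ((pushEt hf AddCommGrpCat.{u + 1}).map (R.ι.f 0))
            ((pushEt hf AddCommGrpCat.{u + 1}).map (R.cocomplex.d 0 1))
            (((pushEt hf AddCommGrpCat.{u + 1}).map_comp _ _).symm.trans
              ((congrArg _ R.ι_f_zero_comp_complex_d).trans
                ((pushEt hf AddCommGrpCat.{u + 1}).map_zero _ _)))) hker)
        exact ShortComplex.isoMk (Iso.refl _) (Iso.refl _) (Iso.refl _) (by simp) (by simp)
      · simp only [HomologicalComplex.shortComplexFunctor'_map_τ₂]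
        simpa using mono_of_isLimit_fork hker
    | succ n =>
      rw [quasiIsoAt_iff_exactAt _ _ (CochainComplex.exactAt_succ_single_obj _ _)]
      exact exactAt_push hf haff M hM R n⟩

include hY hX haff hM in
/-- Cohomology of a quasi-coherent module and of its direct image along an affine morphism. -/
theorem nonempty_hModEt_addEquiv (n : ℕ) :
    Nonempty (HModEt X M n ≃+ HModEt Y ((pushModEt hf).obj M) n) := by
  let G := (toAbEt X).obj M
  let ZX := (constantSheaf (etTop X) AddCommGrpCat.{u + 1}).obj (AddCommGrpCat.of (ULift.{u + 1} ℤ))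
  let ZY := (constantSheaf (etTop Y) AddCommGrpCat.{u + 1}).obj (AddCommGrpCat.of (ULift.{u + 1} ℤ))
  suffices h : Nonempty (Ext ZX G n ≃+ Ext ZY ((pushEt hf AddCommGrpCat.{u + 1}).obj G) n) from h
  match n with
  | 0 => exact ⟨(Ext.addEquiv₀.trans (theta hf hY _ G)).trans Ext.addEquiv₀.symm⟩
  | n + 1 =>
    exact nonempty_ext_addEquiv (InjectiveResolution.of G)
      (pushRes hf hX hY haff M hM (InjectiveResolution.of G))
      (fun i => theta hf hY (AddCommGrpCat.of (ULift.{u + 1} ℤ)) ((InjectiveResolution.of G).cocomplex.X i))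
      (fun i g => theta_comp hf hY g _) n

end Groth.Agent.H8.QCohVanish
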