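import Groth.Agent.H8.QCohVanish.Good
import Mathlib.CategoryTheory.Sites.SheafCohomology.Basic
import Mathlib.CategoryTheory.Preadditive.Injective.Resolution
import Groth.Agent.Lib.SpecSeq.HomExt

/-!
# Vanishing of cohomology of good sheaves on a site with a good final object
-/

universe u

set_option backward.isDefEq.respectTransparency false
set_option backward.isDefEq.respectTransparency.types false
set_option linter.style.haveILetI false

open CategoryTheory CategoryTheory.Limits AlgebraicGeometry Opposite AlgSp Abelian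

namespace Groth.Agent.H8.QCohVanish

variable {S : Scheme.{u}} {X : Sp S}

/-- Morphisms from the constant sheaf are global sections. -/
noncomputable def secEquiv {T : EtOver X} (hT : IsTerminal T) (Y : AbEt X) :
    ((constantSheaf (etTop X) AddCommGrpCat.{u + 1}).obj (AddCommGrpCat.of (ULift.{u + 1} ℤ)) ⟶ Y) ≃+
      Y.obj.obj (op T) :=
  (Ext.addEquiv₀).symm.trans (Sheaf.H.equiv₀ Y hT)

lemma secEquiv_comp {T : EtOver X} (hT : IsTerminal T) {Y Y' : AbEt X}
    (f : (constantSheaf (etTop X) AddCommGrpCat.{u + 1}).obj (AddCommGrpCat.of (ULift.{u + 1} ℤ)) ⟶ Y)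
    (g : Y ⟶ Y') : secEquiv hT Y' (f ≫ g) = g.hom.app (op T) (secEquiv hT Y f) := by
  change Sheaf.H.equiv₀ Y' hT (Ext.addEquiv₀.symm (f ≫ g)) =
    g.hom.app (op T) (Sheaf.H.equiv₀ Y hT (Ext.addEquiv₀.symm f))
  rw [Sheaf.H.equiv₀_naturality]
  refine congrArg (Sheaf.H.equiv₀ Y' hT) (Ext.addEquiv₀.injective ?_)
  rw [Sheaf.H.addEquiv₀_map, AddEquiv.apply_symm_apply, AddEquiv.apply_symm_apply]

/-- Good sheaves have no higher cohomology when the final object is good. -/
theorem subsingleton_H_of_good {T : EtOver X} (hT : IsTerminal T) (hB : IsAffine T.obj.left.left)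
    {G : AbEt X} (hG : Good (covers X) G) (n : ℕ) : Subsingleton (Sheaf.H G (n + 1)) := by
  refine subsingleton_of_forall_eq 0 fun α => ?_
  let R := injectiveResolution G
  obtain ⟨f, hf, rfl⟩ := R.extMk_surjective α (n + 2) rfl
  rw [R.extMk_eq_zero_iff f (n + 2) rfl hf n rfl]
  obtain ⟨y, hy⟩ := exists_eq_d R hG (U := T) hB n (secEquiv hT _ f) (by
    rw [← secEquiv_comp, hf, map_zero])
  refine ⟨(secEquiv hT _).symm y, (secEquiv hT _).injective ?_⟩
  rw [secEquiv_comp, AddEquiv.apply_symm_apply, hy]

/-- The final object of the small etale site of a representable sheaf. -/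
theorem exists_terminal (T : Over S) (e : (yon S).obj T ≅ X) :
    ∃ (E : EtOver X), E.obj.left = T ∧ Nonempty (IsTerminal E) := by
  let he : RepWith @Etale e.hom :=
    MorphismProperty.of_isIso (RepWith (S := S) @Etale) e.hom
  refine ⟨EtOver.mk e.hom he, rfl, ⟨IsTerminal.ofUniqueHom
    (fun E => EtOver.homMk ((yon S).preimage (E.obj.hom ≫ e.inv)) ?_) fun E m => EtOver.hom_ext _ _ ?_⟩⟩
  · change (yon S).map _ ≫ e.hom = E.obj.hom
    rw [Functor.map_preimage, Category.assoc, e.inv_hom_id, Category.comp_id]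
  · refine (yon S).map_injective ?_
    change (yon S).map m.hom.left = (yon S).map ((yon S).preimage _)
    rw [Functor.map_preimage, ← EtOver.w m]
    exact ((Category.assoc _ _ _).trans ((congrArg (_ ≫ ·) e.hom_inv_id).trans (Category.comp_id _))).symm

/-- Quasi-coherent modules on an affine scheme have no higher cohomology. -/
theorem subsingleton_hModEt {X : Sp S} (T : Over S) (hT : IsAffine T.left) (e : (yon S).obj T ≅ X)
    (M : ModEt X) (hM : Lib.EtMod.IsCart M) (n : ℕ) : Subsingleton (HModEt X M (n + 1)) := by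
  obtain ⟨E, hE, ⟨hE'⟩⟩ := exists_terminal T e
  exact subsingleton_H_of_good hE' (hE ▸ hT) (good_of_isCart M hM) n

end Groth.Agent.H8.QCohVanish
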